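import Mathlib
import Groth.Prelude.Def_CAlgX
import Groth.Prelude.Def_EGA41
import Groth.Agent.Lib.Helper5.PB.PB17
import Groth.Agent.Lib.Helper5.CA.JZ2

set_option autoImplicit false
universe u

open IsLocalRing TensorProduct KaehlerDifferential

namespace Groth.Agent.H5.Imp

open H5.PB

section
variable {k K A : Type u} [Field k] [Field K] [Algebra k K] [CommRing A] [IsLocalRing A]
  [Algebra k A] [Algebra A K] [IsScalarTower k A K]

attribute [local instance] opMod isCentralScalar_opMod

theorem ker_qE_sq (D : Derivation ℤ k K) :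
    (RingHom.ker (qE (B := K) D : EE K D →+* K)) ^ 2 = ⊥ := by
  rw [pow_two, eq_bot_iff, Ideal.mul_le]
  intro x hx y hy
  rw [RingHom.mem_ker] at hx hy
  have hx' : TrivSqZeroExt.fst (x : TrivSqZeroExt K K) = 0 := hx
  have hy' : TrivSqZeroExt.fst (y : TrivSqZeroExt K K) = 0 := hy
  rw [Ideal.mem_bot]
  apply TrivSqZeroExt.ext
  · have := TrivSqZeroExt.fst_mul (x : TrivSqZeroExt K K) y
    rw [hx', zero_mul] at this
    exact this
  · have := TrivSqZeroExt.snd_mul (x : TrivSqZeroExt K K) y
    rw [hx', hy'] at this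
    refine this.trans ?_
    show (0 : K) • _ + (0 : K) • _ = (0 : K)
    rw [zero_smul, zero_smul, add_zero]

/-- Derivations of the base field into the residue field extend to an adically formally smooth
local algebra. -/
theorem exists_derivation_extension
    (hs : Function.Surjective (algebraMap A K))
    (h : CAlgX.IsAdicFormallySmooth k A (maximalIdeal A)) (D : Derivation ℤ k K) :
    ∃ D' : Derivation ℤ A K, ∀ a : k, D' (algebraMap k A a) = D a := by
  let ρ : A →ₐ[k] K := IsScalarTower.toAlgHom k A K
  have hker : ∀ x ∈ maximalIdeal A, ρ x = 0 := by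
    intro x hx
    by_contra hne
    have hu : IsUnit (ρ x) := isUnit_iff_ne_zero.mpr hne
    haveI : IsLocalHom (algebraMap A K) := IsLocalHom.of_surjective _ hs
    exact hx (isUnit_of_map_unit (algebraMap A K) x hu)
  let e : (EE K D ⧸ RingHom.ker (qE (B := K) D)) ≃ₐ[k] K :=
    Ideal.quotientKerAlgEquivOfSurjective (qE_surjective D)
  have he : ∀ z : EE K D, e (Ideal.Quotient.mk _ z) = qE D z := fun z => rfl
  let ψ : A →ₐ[k] EE K D ⧸ RingHom.ker (qE (B := K) D) := e.symm.toAlgHom.comp ρ
  obtain ⟨χ, hχ⟩ := h (EE K D) (RingHom.ker (qE (B := K) D)) (ker_qE_sq D) ψ ⟨1, by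
    intro x hx
    rw [pow_one] at hx
    show e.symm (ρ x) = 0
    rw [hker x hx, map_zero]⟩
  have hfst : ∀ a : A, TrivSqZeroExt.fst (χ a : TrivSqZeroExt K K) = algebraMap A K a := by
    intro a
    have h1 : Ideal.Quotient.mk _ (χ a) = ψ a := congrArg (fun φ => φ a) hχ
    have h2 : e (Ideal.Quotient.mk _ (χ a)) = ρ a := by
      rw [h1]
      exact e.apply_symm_apply _
    rw [he] at h2
    exact h2
  let D' : Derivation ℤ A K :=
    { toLinearMap := (AddMonoidHom.toIntLinearMap
        { toFun := fun b => TrivSqZeroExt.snd (χ b : TrivSqZeroExt K K)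
          map_zero' := by rw [map_zero]; rfl
          map_add' := fun b c => by rw [map_add]; rfl })
      map_one_eq_zero' := by
        show TrivSqZeroExt.snd (χ 1 : TrivSqZeroExt K K) = 0
        rw [map_one]; rfl
      leibniz' := fun b c => by
        show TrivSqZeroExt.snd (χ (b * c) : TrivSqZeroExt K K) =
          b • TrivSqZeroExt.snd (χ c : TrivSqZeroExt K K) +
            c • TrivSqZeroExt.snd (χ b : TrivSqZeroExt K K)
        rw [map_mul]
        have := TrivSqZeroExt.snd_mul (χ b : TrivSqZeroExt K K) (χ c : TrivSqZeroExt K K)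
        rw [hfst b, hfst c] at this
        refine this.trans ?_
        show algebraMap A K b • TrivSqZeroExt.snd (χ c : TrivSqZeroExt K K) +
          algebraMap A K c • TrivSqZeroExt.snd (χ b : TrivSqZeroExt K K) = _
        rw [algebraMap_smul, algebraMap_smul] }
  refine ⟨D', fun a => ?_⟩
  show TrivSqZeroExt.snd (χ (algebraMap k A a) : TrivSqZeroExt K K) = D a
  rw [χ.commutes]
  rfl

end

end Groth.Agent.H5.Imp
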