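import Mathlib
import Groth.Agent.Lib.Helper5.Imp.Imp1

set_option autoImplicit false
universe u

open IsLocalRing TensorProduct KaehlerDifferential

namespace Groth.Agent.H5.Imp

section
variable {k K A : Type u} [Field k] [Field K] [Algebra k K] [CommRing A] [IsLocalRing A]
  [Algebra k A] [Algebra A K] [IsScalarTower k A K]

variable (k K A) in
/-- the comparison map `K ⊗_k Ω_k → K ⊗_A Ω_A`. -/
noncomputable def theta : K ⊗[k] Ω[k⁄ℤ] →ₗ[K] K ⊗[A] Ω[A⁄ℤ] :=
  LinearMap.liftBaseChange K
    (((TensorProduct.mk A K Ω[A⁄ℤ] 1).restrictScalars k).comp (KaehlerDifferential.map ℤ ℤ k A))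

theorem theta_tmul (c : K) (a : k) :
    theta k K A (c ⊗ₜ KaehlerDifferential.D ℤ k a) =
      c ⊗ₜ KaehlerDifferential.D ℤ A (algebraMap k A a) := by
  unfold theta
  rw [LinearMap.liftBaseChange_tmul]
  simp only [LinearMap.comp_apply, LinearMap.restrictScalars_apply, KaehlerDifferential.map_D,
    TensorProduct.mk_apply]
  rw [TensorProduct.smul_tmul', smul_eq_mul, mul_one]

theorem mapBaseChange_comp_theta :
    (KaehlerDifferential.mapBaseChange ℤ A K).comp (theta k K A) =
      KaehlerDifferential.mapBaseChange ℤ k K := by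
  apply H5.JZ.ext_tensor_kaehler
  intro a
  rw [LinearMap.comp_apply, theta_tmul, KaehlerDifferential.mapBaseChange_tmul,
    KaehlerDifferential.mapBaseChange_tmul, KaehlerDifferential.map_D, KaehlerDifferential.map_D,
    ← IsScalarTower.algebraMap_apply]

theorem theta_injective (hs : Function.Surjective (algebraMap A K))
    (h : CAlgX.IsAdicFormallySmooth k A (maximalIdeal A)) :
    Function.Injective (theta k K A) := by
  rw [injective_iff_map_eq_zero]
  intro ω hω
  rw [← Module.forall_dual_apply_eq_zero_iff K ω]
  intro φ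
  let f : Ω[k⁄ℤ] →ₗ[k] K := (φ.restrictScalars k).comp (TensorProduct.mk k K (Ω[k⁄ℤ]) 1)
  obtain ⟨D', hD'⟩ := exists_derivation_extension hs h (f.compDer (KaehlerDifferential.D ℤ k))
  let ψ : K ⊗[A] Ω[A⁄ℤ] →ₗ[K] K := LinearMap.liftBaseChange K D'.liftKaehlerDifferential
  have h1 : ψ.comp (theta k K A) = φ := by
    apply H5.JZ.ext_tensor_kaehler
    intro a
    rw [LinearMap.comp_apply, theta_tmul]
    show LinearMap.liftBaseChange K D'.liftKaehlerDifferential
      ((1 : K) ⊗ₜ KaehlerDifferential.D ℤ A (algebraMap k A a)) = _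
    rw [LinearMap.liftBaseChange_tmul, one_smul, Derivation.liftKaehlerDifferential_comp_D, hD']
    rfl
  rw [← h1, LinearMap.comp_apply, hω, map_zero]

/-- the kernel of `K ⊗_A Ω_A → Ω_K` is finite-dimensional when `𝔪` is finitely generated. -/
theorem finite_ker_mapBaseChange [IsNoetherianRing A] (hs : Function.Surjective (algebraMap A K)) :
    Module.Finite K (LinearMap.ker (KaehlerDifferential.mapBaseChange ℤ A K)) := by
  classical
  obtain ⟨s, hs'⟩ : (RingHom.ker (algebraMap A K)).FG := IsNoetherian.noetherian _
  set I := RingHom.ker (algebraMap A K) with hI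
  let g : A → K ⊗[A] Ω[A⁄ℤ] := fun t => (1 : K) ⊗ₜ KaehlerDifferential.D ℤ A t
  have hle : LinearMap.ker (KaehlerDifferential.mapBaseChange ℤ A K) ≤
      Submodule.span K (g '' (s : Set A)) := by
    intro w hw
    have hw' : w ∈ (LinearMap.ker (KaehlerDifferential.mapBaseChange ℤ A K)).restrictScalars A := hw
    rw [← KaehlerDifferential.range_kerCotangentToTensor ℤ A K hs] at hw'
    obtain ⟨c, rfl⟩ := hw'
    obtain ⟨x, rfl⟩ := Ideal.toCotangent_surjective _ c
    rw [KaehlerDifferential.kerCotangentToTensor_toCotangent]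
    have hx : (x : A) ∈ Ideal.span (s : Set A) := by rw [hs']; exact x.2
    -- induction on the span
    refine Submodule.span_induction (p := fun y _ => (1 : K) ⊗ₜ[A] KaehlerDifferential.D ℤ A y ∈
      Submodule.span K (g '' (s : Set A))) ?_ ?_ ?_ ?_ hx
    · intro y hy
      exact Submodule.subset_span ⟨y, hy, rfl⟩
    · simp
    · intro y z _ _ hy hz
      rw [map_add, TensorProduct.tmul_add]
      exact add_mem hy hz
    · intro a y hy hy'
      have hyI : y ∈ I := by
        rw [← hs']
        exact hy
      rw [smul_eq_mul, Derivation.leibniz, TensorProduct.tmul_add, TensorProduct.tmul_smul,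
        TensorProduct.tmul_smul, TensorProduct.smul_tmul', TensorProduct.smul_tmul',
        Algebra.smul_def, Algebra.smul_def, mul_one, mul_one, (RingHom.mem_ker).mp hyI,
        TensorProduct.zero_tmul, add_zero]
      have : (algebraMap A K a) ⊗ₜ[A] KaehlerDifferential.D ℤ A y =
          (algebraMap A K a) • ((1 : K) ⊗ₜ[A] KaehlerDifferential.D ℤ A y) := by
        rw [TensorProduct.smul_tmul', smul_eq_mul, mul_one]
      rw [this]
      exact Submodule.smul_mem _ _ hy'
  haveI : FiniteDimensional K (Submodule.span K (g '' (s : Set A))) :=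
    FiniteDimensional.span_of_finite K ((Finset.finite_toSet s).image g)
  exact Submodule.finiteDimensional_of_le hle

/-- **EGA 0_IV 22.2.6, necessity**: the residue field of a Noetherian local `k`-algebra which is
adically formally smooth over `k` has an imperfection module of finite rank. -/
theorem finite_imperfection [IsNoetherianRing A] (hs : Function.Surjective (algebraMap A K))
    (h : CAlgX.IsAdicFormallySmooth k A (maximalIdeal A)) :
    Module.Finite K (EGA41.imperfection ℤ k K) := by
  haveI := finite_ker_mapBaseChange (K := K) (A := A) hs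
  let Θ : EGA41.imperfection ℤ k K →ₗ[K] LinearMap.ker (KaehlerDifferential.mapBaseChange ℤ A K) :=
    LinearMap.codRestrict _ ((theta k K A).comp (Submodule.subtype _)) (by
      intro y
      rw [LinearMap.mem_ker, LinearMap.comp_apply, ← LinearMap.comp_apply,
        mapBaseChange_comp_theta]
      exact y.2)
  have hΘ : Function.Injective Θ := by
    intro y z hyz
    have h1 : theta k K A y.1 = theta k K A z.1 := congrArg Subtype.val hyz
    exact Subtype.ext (theta_injective hs h h1)
  have hfin : Module.Finite K (LinearMap.ker (KaehlerDifferential.mapBaseChange ℤ A K)) :=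
    finite_ker_mapBaseChange (K := K) (A := A) hs
  haveI : IsNoetherian K (LinearMap.ker (KaehlerDifferential.mapBaseChange ℤ A K)) :=
    @isNoetherian_of_isNoetherianRing_of_finite K _ _ (Submodule.addCommGroup _) _ _ hfin
  exact Module.Finite.of_injective Θ hΘ

end

end Groth.Agent.H5.Imp
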