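import Mathlib

set_option autoImplicit false
universe u

namespace Groth.Agent.H5.Imp

/-- **Selection lemma**: if `φ : V → W` has finite-dimensional kernel and `(v i)` is a family with
a "coordinate" map `ρ` (`ρ (v i) = single i 1`), then all but finitely many of the `φ (v i)` are
linearly independent; the number of exceptions is at most `dim ker φ`. -/
theorem exists_selection {K : Type*} [Field K] {V W : Type*} [AddCommGroup V] [Module K V]
    [AddCommGroup W] [Module K W] (φ : V →ₗ[K] W) [Module.Finite K (LinearMap.ker φ)]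
    {I : Type*} (v : I → V) (ρ : V →ₗ[K] (I →₀ K)) (hρ : ∀ i, ρ (v i) = Finsupp.single i 1) :
    ∃ S : Set I, LinearIndepOn K (fun i => φ (v i)) S ∧ Finite ↥Sᶜ ∧
      Nat.card ↥Sᶜ ≤ Module.finrank K (LinearMap.ker φ) := by
  classical
  obtain ⟨S, hS, hmax⟩ := exists_maximal_linearIndepOn K (fun i => φ (v i))
  refine ⟨S, hS, ?_⟩
  -- for `j ∉ S`, a preimage
  have h1 : ∀ j : ↥Sᶜ, ∃ u ∈ Submodule.span K (v '' S), φ u = φ (v j) := by
    rintro ⟨j, hj⟩
    obtain ⟨a, ha, hmem⟩ := hmax j hj
    have h2 : φ (v j) ∈ Submodule.span K ((fun i => φ (v i)) '' S) := by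
      have := Submodule.smul_mem _ a⁻¹ hmem
      rwa [smul_smul, inv_mul_cancel₀ ha, one_smul] at this
    have h3 : (fun i => φ (v i)) '' S = φ '' (v '' S) := by
      rw [Set.image_image]
    rw [h3, ← Submodule.map_span] at h2
    obtain ⟨u, hu, hu'⟩ := h2
    exact ⟨u, hu, hu'⟩
  choose u hu huφ using h1
  let y : ↥Sᶜ → LinearMap.ker φ := fun j => ⟨v j - u j, by
    rw [LinearMap.mem_ker, map_sub, huφ, sub_self]⟩
  let ρ' : V →ₗ[K] (↥Sᶜ →₀ K) := (Finsupp.lsubtypeDomain (Sᶜ : Set I)).comp ρ
  have hρ'S : ∀ w ∈ Submodule.span K (v '' S), ρ' w = 0 := by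
    intro w hw
    induction hw using Submodule.span_induction with
    | mem w hw =>
      obtain ⟨s, hs, rfl⟩ := hw
      show Finsupp.subtypeDomain _ (ρ (v s)) = 0
      rw [hρ]
      ext ⟨j, hj⟩
      rw [Finsupp.subtypeDomain_apply, Finsupp.single_apply, Finsupp.zero_apply, if_neg]
      rintro rfl
      exact hj hs
    | zero => exact map_zero _
    | add a b _ _ ha hb => rw [map_add, ha, hb, add_zero]
    | smul c a _ ha => rw [map_smul, ha, smul_zero]
  have hρ'y : ∀ j : ↥Sᶜ, ρ' (y j : V) = Finsupp.single j 1 := by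
    intro j
    show ρ' (v j - u j) = _
    rw [map_sub, hρ'S _ (hu j), sub_zero]
    show Finsupp.subtypeDomain _ (ρ (v j)) = _
    rw [hρ]
    ext ⟨i, hi⟩
    rw [Finsupp.subtypeDomain_apply, Finsupp.single_apply, Finsupp.single_apply]
    simp only [Subtype.ext_iff]
  have hLI : LinearIndependent K y := by
    apply LinearIndependent.of_comp (ρ'.comp (Submodule.subtype _))
    have : (ρ'.comp (Submodule.subtype _)) ∘ y = fun j => Finsupp.single j (1 : K) := by
      funext j
      exact hρ'y j
    rw [this]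
    exact (Finsupp.basisSingleOne (R := K)).linearIndependent
  haveI : Finite ↥Sᶜ := hLI.finite
  refine ⟨inferInstance, ?_⟩
  haveI : Fintype ↥Sᶜ := Fintype.ofFinite _
  rw [Nat.card_eq_fintype_card]
  exact hLI.fintype_card_le_finrank

end Groth.Agent.H5.Imp
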