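import Mathlib
import Groth.Prelude.Def_EGA41
import Groth.Agent.Lib.Helper5.Imp.Imp6
import Groth.Agent.Lib.Helper5.PB.PB16
import Groth.Agent.Lib.Helper5.CA.JZ2
import Groth.Agent.Lib.Helper5.CA.CoeffUniq

set_option autoImplicit false
universe u

open EGA41 TensorProduct

namespace Groth.Agent.H5.Imp

open H5.PB

theorem algebraMap_int_bot_surjective (p : ℕ) [Fact p.Prime] (k : Type u) [Field k] [CharP k p] :
    Function.Surjective (algebraMap ℤ (⊥ : Subfield k)) := by
  rintro ⟨f, hf⟩
  obtain ⟨n, hn⟩ := (mem_bot_iff_intCast p k).mp hf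
  refine ⟨n, ?_⟩
  apply Subtype.ext
  rw [eq_intCast]
  show ((n : (⊥ : Subfield k)) : k) = f
  rw [← hn]
  exact map_intCast (⊥ : Subfield k).subtype n

/-- **Selection in characteristic `p`**. -/
theorem exists_selection_charP (p : ℕ) [Fact p.Prime] {k K : Type u} [Field k] [Field K]
    [Algebra k K] [CharP k p] (hfin : Module.Finite K (EGA41.imperfection ℤ k K)) :
    ∃ (B : Set k) (_ : IsPBasis p (⊥ : Subfield k) (Subtype.val : B → k)) (S : Set ↥B),
      IsPIndependent p (⊥ : Subfield k) (fun i : S => algebraMap k K (i : ↥B)) ∧ Finite ↥Sᶜ ∧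
      Nat.card ↥Sᶜ ≤ Module.finrank K (EGA41.imperfection ℤ k K) := by
  classical
  haveI : CharP K p := charP_of_injective_algebraMap (algebraMap k K).injective p
  let F : Subfield k := ⊥
  haveI : PerfectField F := CoeffUniq.perfectField_bot k
  haveI : CharP F p :=
    (RingHom.charP_iff F.subtype Subtype.val_injective p).mpr inferInstance
  haveI : PerfectRing F p := PerfectField.toPerfectRing p
  obtain ⟨B, hB⟩ := exists_pBasis p F k
  obtain ⟨b, hb⟩ := main2466 p (Subtype.val : B → k) hB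
  let φ : K ⊗[k] Ω[k⁄ℤ] →ₗ[K] Ω[K⁄ℤ] := KaehlerDifferential.mapBaseChange ℤ k K
  haveI : Module.Finite K (LinearMap.ker φ) := hfin
  let v : ↥B → K ⊗[k] Ω[k⁄ℤ] := fun i => 1 ⊗ₜ KaehlerDifferential.D ℤ k (i : k)
  let ρ : K ⊗[k] Ω[k⁄ℤ] →ₗ[K] (↥B →₀ K) :=
    (b.baseChange K).repr.toLinearMap ∘ₗ (LinearMap.baseChange K (KaehlerDifferential.map ℤ F k k))
  have hρ : ∀ i, ρ (v i) = Finsupp.single i 1 := by
    intro i
    show (b.baseChange K).repr (LinearMap.baseChange K (KaehlerDifferential.map ℤ F k k)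
      (1 ⊗ₜ KaehlerDifferential.D ℤ k (i : k))) = _
    rw [LinearMap.baseChange_tmul, KaehlerDifferential.map_D, Algebra.algebraMap_self_apply, ← hb,
      ← Module.Basis.baseChange_apply, Module.Basis.repr_self]
  obtain ⟨S, hS, hSfin, hScard⟩ := exists_selection φ v ρ hρ
  refine ⟨B, hB, S, ?_, hSfin, hScard⟩
  rw [(main2468 p (fun i : S => algebraMap k K (i : ↥B))).1]
  have hβ : Function.Injective (KaehlerDifferential.map ℤ F K K) :=
    H5.JZ.map_injective_of_surjective ℤ F K (algebraMap_int_bot_surjective p k)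
  have h1 : LinearIndependent K (fun i : S => φ (v i)) := hS
  have h2 := h1.map' (KaehlerDifferential.map ℤ F K K) (LinearMap.ker_eq_bot.mpr hβ)
  have h3 : (fun i : S => KaehlerDifferential.D F K (algebraMap k K ((i : ↥B) : k))) =
      (KaehlerDifferential.map ℤ F K K) ∘ fun i : S => φ (v i) := by
    funext i
    show _ = KaehlerDifferential.map ℤ F K K (KaehlerDifferential.mapBaseChange ℤ k K
      (1 ⊗ₜ KaehlerDifferential.D ℤ k ((i : ↥B) : k)))
    rw [KaehlerDifferential.mapBaseChange_tmul, one_smul, KaehlerDifferential.map_D,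
      KaehlerDifferential.map_D, Algebra.algebraMap_self_apply]
  rw [h3]
  exact h2

end Groth.Agent.H5.Imp
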