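import Mathlib
import Groth.Agent.Lib.Helper5.PB.PB12
import Groth.Agent.Lib.Helper5.CA.AdicFS2

set_option autoImplicit false
universe u

open EGA41

namespace Groth.Agent.H5.Imp

open H5.PB

section
variable {p : ℕ} [hpp : Fact p.Prime] {A B : Type u} [CommRing A] [CharP A p] [PerfectRing A p]
  [CommRing B] [Algebra A B] [CharP B p] [IsReduced B] {ι : Type u} (x : ι → B)

omit [CharP A p] [PerfectRing A p] [CharP B p] [IsReduced B] in
theorem ker_factor_pow {C : Type u} [CommRing C] [Algebra A C] (𝔠 : Ideal C) (m : ℕ) :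
    RingHom.ker (Ideal.Quotient.factorₐ A
      (show 𝔠 ^ (m + 1) ≤ 𝔠 from Ideal.pow_le_self (Nat.succ_ne_zero m))).toRingHom ^ (p ^ (m + 1)) = ⊥ := by
  have h1 : RingHom.ker (Ideal.Quotient.factorₐ A
      (show 𝔠 ^ (m + 1) ≤ 𝔠 from Ideal.pow_le_self (Nat.succ_ne_zero m))).toRingHom ≤
      𝔠.map (Ideal.Quotient.mk (𝔠 ^ (m + 1))) := by
    intro y hy
    obtain ⟨c, rfl⟩ := Ideal.Quotient.mk_surjective y
    rw [RingHom.mem_ker] at hy
    have h2 : Ideal.Quotient.mk 𝔠 c = 0 := hy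
    exact Ideal.mem_map_of_mem _ (Ideal.Quotient.eq_zero_iff_mem.mp h2)
  rw [eq_bot_iff]
  have h3 : m + 1 ≤ p ^ (m + 1) := (Nat.lt_pow_self hpp.out.one_lt).le
  refine (Ideal.pow_right_mono h1 _).trans ?_
  refine (Ideal.pow_le_pow_right h3).trans ?_
  rw [← Ideal.map_pow, Ideal.map_quotient_self]

/-- **Lifting to a complete ring with prescribed values on a `p`-basis.** -/
theorem exists_algHom_of_pBasis_of_isAdicComplete (hx : IsPBasis p A x)
    {C : Type u} [CommRing C] [Algebra A C] (𝔠 : Ideal C) [IsAdicComplete 𝔠 C]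
    (v₀ : B →ₐ[A] C ⧸ 𝔠) (z : ι → C) (hz : ∀ i, Ideal.Quotient.mk 𝔠 (z i) = v₀ (x i)) :
    ∃ w : B →ₐ[A] C, (∀ b, Ideal.Quotient.mk 𝔠 (w b) = v₀ b) ∧ ∀ i, w (x i) = z i := by
  -- level maps
  have hle : ∀ m : ℕ, 𝔠 ^ (m + 1) ≤ 𝔠 := fun m => Ideal.pow_le_self (Nat.succ_ne_zero m)
  let π : ∀ m : ℕ, (C ⧸ 𝔠 ^ (m + 1)) →ₐ[A] C ⧸ 𝔠 := fun m => Ideal.Quotient.factorₐ A (hle m)
  have hπs : ∀ m, Function.Surjective (π m) := fun m =>
    Ideal.Quotient.factor_surjective (hle m)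
  have hex : ∀ m : ℕ, ∃! w : B →ₐ[A] C ⧸ 𝔠 ^ (m + 1), (π m).comp w = v₀ ∧
      ∀ i, w (x i) = Ideal.Quotient.mk (𝔠 ^ (m + 1)) (z i) := fun m =>
    lift_pow x hx (m + 1) (π m) (hπs m) (ker_factor_pow 𝔠 m) v₀ _ (fun i => hz i)
  choose g hg hguniq using hex
  let τ : ∀ m : ℕ, (C ⧸ 𝔠 ^ (m + 1 + 1)) →ₐ[A] C ⧸ 𝔠 ^ (m + 1) := fun m =>
    Ideal.Quotient.factorₐ A (Ideal.pow_le_pow_right (Nat.le_succ (m + 1)))
  have hcompat : ∀ m, (τ m).comp (g (m + 1)) = g m := by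
    intro m
    apply hguniq m
    refine ⟨?_, fun i => ?_⟩
    · rw [← (hg (m + 1)).1, ← AlgHom.comp_assoc]
      congr 1
      apply AlgHom.ext
      intro y
      obtain ⟨c, rfl⟩ := Ideal.Quotient.mk_surjective y
      rfl
    · rw [AlgHom.comp_apply, (hg (m + 1)).2 i]
      rfl
  -- the system indexed by all `n`
  let f : ∀ n : ℕ, B →ₐ[A] C ⧸ 𝔠 ^ n := fun n =>
    (Ideal.Quotient.factorₐ A (Ideal.pow_le_pow_right (Nat.le_succ n))).comp (g n)
  have hf : ∀ n : ℕ, (Ideal.Quotient.factorₐ A (Ideal.pow_le_pow_right n.le_succ)).comp (f (n + 1)) =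
      f n := by
    intro n
    show (Ideal.Quotient.factorₐ A (Ideal.pow_le_pow_right n.le_succ)).comp
      ((Ideal.Quotient.factorₐ A (Ideal.pow_le_pow_right (Nat.le_succ (n + 1)))).comp (g (n + 1))) =
      (Ideal.Quotient.factorₐ A (Ideal.pow_le_pow_right (Nat.le_succ n))).comp (g n)
    rw [← hcompat n]
  obtain ⟨w, hw⟩ := AdicFS.exists_algHom_of_compatible 𝔠 f hf
  have hwg : ∀ m b, Ideal.Quotient.mk (𝔠 ^ (m + 1)) (w b) = g m b := by
    intro m b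
    rw [hw (m + 1) b]
    exact congrArg (fun φ => φ b) (hcompat m)
  refine ⟨w, fun b => ?_, fun i => ?_⟩
  · have h1 := hwg 0 b
    have h2 : (π 0) (g 0 b) = v₀ b := congrArg (fun φ => φ b) (hg 0).1
    rw [← h2, ← h1]
    rfl
  · -- use Hausdorffness
    rw [← sub_eq_zero]
    apply IsHausdorff.haus' (I := 𝔠)
    intro n
    rw [SModEq.zero, smul_eq_mul, Ideal.mul_top]
    have h1 := hwg n (x i)
    rw [(hg n).2 i, Ideal.Quotient.eq] at h1
    exact Ideal.pow_le_pow_right (Nat.le_succ n) h1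

end

end Groth.Agent.H5.Imp
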