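import Mathlib
import Groth.Agent.Lib.Helper5.CA.PSAdicSmooth

set_option autoImplicit false
universe u

open IsLocalRing MvPowerSeries

namespace Groth.Agent.H5.Imp

open Groth.Agent.H5.CA

/-- Lifting ring maps out of a power series ring over a field along a square-zero ideal, with
prescribed lift on the constants and prescribed lifts of the variables. -/
theorem exists_ringHom_mvPowerSeries_lift {K : Type u} [Field K] (n : ℕ) {E : Type u} [CommRing E]
    (J : Ideal E) (hJ : J ^ 2 = ⊥)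
    (ψ : MvPowerSeries (Fin n) K →+* E ⧸ J)
    (hψ : ∃ N : ℕ, ∀ x ∈ maximalIdeal (MvPowerSeries (Fin n) K) ^ N, ψ x = 0)
    (φK : K →+* E) (hφK : ∀ c, Ideal.Quotient.mk J (φK c) = ψ (C c))
    (a : Fin n → E) (ha : ∀ i, Ideal.Quotient.mk J (a i) = ψ (X i)) :
    ∃ χ : MvPowerSeries (Fin n) K →+* E, (∀ c, χ (C c) = φK c) ∧ (∀ i, χ (X i) = a i) ∧
      ∀ f, Ideal.Quotient.mk J (χ f) = ψ f := by
  classical
  obtain ⟨k₀, hk₀⟩ := hψ
  rw [Groth.Agent.H4.MvPSVars.maximalIdeal_eq_span_range_X] at hk₀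
  letI : Algebra K E := φK.toAlgebra
  let ψK : MvPowerSeries (Fin n) K →ₐ[K] E ⧸ J :=
    { ψ with
      commutes' := fun c => by
        show ψ (C c) = Ideal.Quotient.mk J (φK c)
        exact (hφK c).symm }
  have hnil : ∀ i, IsNilpotent (a i) := by
    intro i
    refine ⟨k₀ * 2, ?_⟩
    have h1 : (a i) ^ k₀ ∈ J := by
      rw [← Ideal.Quotient.eq_zero_iff_mem, map_pow, ha, ← map_pow]
      exact hk₀ _ (Ideal.pow_mem_pow (Ideal.subset_span (Set.mem_range_self i)) k₀)
    have h2 : ((a i) ^ k₀) ^ 2 ∈ J ^ 2 := Ideal.pow_mem_pow h1 2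
    rw [hJ] at h2
    rw [pow_mul]
    exact h2
  let I : Ideal E := Ideal.span (Set.range a)
  have hIfg : I.FG := ⟨Finset.univ.image a, by simp [I]⟩
  have hInil : IsNilpotent I := by
    rw [Ideal.FG.isNilpotent_iff_le_nilradical hIfg, Ideal.span_le]
    rintro _ ⟨i, rfl⟩
    exact hnil i
  obtain ⟨N, hN⟩ := hInil
  haveI : IsAdicComplete I E := Groth.Agent.H1.isAdicComplete_of_pow_eq_bot I N hN
  obtain ⟨χ, hχ⟩ := exists_algHom_mvPowerSeries K E I a (fun i => Ideal.subset_span ⟨i, rfl⟩)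
  have hmap : ∀ m : ℕ, ∀ x ∈ Ideal.span (Set.range (X : Fin n → MvPowerSeries (Fin n) K)) ^ m,
      χ x ∈ I ^ m := by
    intro m x hx
    have h1 : Ideal.map χ (Ideal.span (Set.range (X : Fin n → MvPowerSeries (Fin n) K))) ≤ I := by
      rw [Ideal.map_span, Ideal.span_le]
      rintro _ ⟨_, ⟨i, rfl⟩, rfl⟩
      rw [hχ]
      exact Ideal.subset_span ⟨i, rfl⟩
    have h2 := Ideal.mem_map_of_mem χ hx
    rw [Ideal.map_pow] at h2
    exact Ideal.pow_right_mono h1 m h2
  have key : (Ideal.Quotient.mkₐ K J).comp χ = ψK := by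
    refine algHom_ext_of_pow _ _ (max N k₀) ?_ ?_ ?_
    · intro x hx
      have h1 := hmap (max N k₀) x hx
      have h2 : I ^ (max N k₀) ≤ I ^ N := Ideal.pow_le_pow_right (le_max_left _ _)
      have h3 := h2 h1
      rw [hN] at h3
      have h4 : χ x = 0 := h3
      simp [h4]
    · intro x hx
      exact hk₀ x (Ideal.pow_le_pow_right (le_max_right _ _) hx)
    · intro i
      show Ideal.Quotient.mk J (χ (X i)) = ψ (X i)
      rw [hχ, ha]
  refine ⟨χ.toRingHom, fun c => ?_, hχ, fun f => ?_⟩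
  · show χ (C c) = φK c
    have : (C c : MvPowerSeries (Fin n) K) = algebraMap K _ c := rfl
    rw [this, χ.commutes]
    rfl
  · exact congrArg (fun φ : MvPowerSeries (Fin n) K →ₐ[K] E ⧸ J => φ f) key

end Groth.Agent.H5.Imp
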