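import Mathlib
import Groth.Prelude.Def_EGA41
import Groth.Agent.Lib.Helper5.Imp.Imp4
import Groth.Agent.Lib.Helper5.PB.PB16

set_option autoImplicit false
universe u

open EGA41 IsLocalRing MvPowerSeries

namespace Groth.Agent.H5.Imp

open H5.PB

/-- **The twisted lifting**. -/
theorem twisted_lift (p : ℕ) [Fact p.Prime] {F k K : Type u} [Field F] [Field k] [Field K]
    [Algebra F k] [Algebra F K] [Algebra k K] [IsScalarTower F k K] [CharP F p] [PerfectRing F p]
    {I : Type u} (x : I → k) (hx : IsPBasis p F x) (S : Set I) [DecidablePred (· ∈ S)]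
    (hS : IsPIndependent p F (fun i : S => algebraMap k K (x i)))
    (n : ℕ) (ε : ↥Sᶜ → Fin n) (hε : Function.Injective ε)
    (w : k →ₐ[F] MvPowerSeries (Fin n) K)
    (hw : ∀ i, w (x i) = C (algebraMap k K (x i)) +
      (if h : i ∈ S then 0 else X (ε ⟨i, h⟩)))
    {E : Type u} [CommRing E] [Algebra k E] (J : Ideal E) (hJ : J ^ 2 = ⊥)
    (ψ : MvPowerSeries (Fin n) K →+* E ⧸ J)
    (hψk : ∀ b, ψ (w b) = Ideal.Quotient.mk J (algebraMap k E b))
    (hψ : ∃ N : ℕ, ∀ f ∈ maximalIdeal (MvPowerSeries (Fin n) K) ^ N, ψ f = 0) :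
    ∃ χ : MvPowerSeries (Fin n) K →+* E, (∀ b, χ (w b) = algebraMap k E b) ∧
      ∀ f, Ideal.Quotient.mk J (χ f) = ψ f := by
  classical
  haveI : CharP k p := charP_of_injective_algebraMap (algebraMap F k).injective p
  haveI : CharP K p := charP_of_injective_algebraMap (algebraMap F K).injective p
  letI : Algebra F E := ((algebraMap k E).comp (algebraMap F k)).toAlgebra
  haveI : IsScalarTower F k E := IsScalarTower.of_algebraMap_eq (fun _ => rfl)
  -- p-basis of K
  obtain ⟨BK, hBK, hBKb⟩ :=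
    exists_pBasis_of_isPIndependent p (fun i : S => algebraMap k K (x i)) hS
  -- ψ₀
  let ψ₀ : K →ₐ[F] E ⧸ J :=
    { ψ.comp (C : K →+* MvPowerSeries (Fin n) K) with
      commutes' := fun f => by
        show ψ (C (algebraMap F K f)) = algebraMap F (E ⧸ J) f
        have h1 : w (algebraMap F k f) = C (algebraMap F K f) := by
          rw [w.commutes, MvPowerSeries.algebraMap_apply]
        rw [← h1, hψk]
        rfl }
  have hψ₀ : ∀ c, ψ₀ c = ψ (C c) := fun c => rfl
  -- z'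
  have hlift : ∀ b : BK, ∃ e : E, Ideal.Quotient.mk J e = ψ₀ b ∧
      ∀ i : S, algebraMap k K (x i) = b → e = algebraMap k E (x i) := by
    intro b
    by_cases h : ∃ i : S, algebraMap k K (x i) = (b : K)
    · obtain ⟨i, hi⟩ := h
      refine ⟨algebraMap k E (x i), ?_, fun i' hi' => ?_⟩
      · rw [← hψk, hw, dif_pos i.2, add_zero, ← hi, hψ₀]
      · have : x i' = x i := (algebraMap k K).injective (hi'.trans hi.symm)
        rw [this]
    · obtain ⟨e, he⟩ := Ideal.Quotient.mk_surjective (ψ₀ b)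
      exact ⟨e, he, fun i hi => absurd ⟨i, hi⟩ h⟩
  choose z' hz' hz'S using hlift
  obtain ⟨φK, ⟨hφK1, hφK2⟩, -⟩ :=
    (main4541 (Subtype.val : BK → K) hBKb).2 E J ⟨2, hJ⟩ ψ₀ z' hz'
  have hφKmk : ∀ c, Ideal.Quotient.mk J (φK c) = ψ (C c) := fun c => congr($hφK1 c)
  -- φK on x_i, i∈S
  have hφS : ∀ i : S, φK (algebraMap k K (x i)) = algebraMap k E (x i) := by
    intro i
    have hmem : algebraMap k K (x i) ∈ BK := hBK ⟨i, rfl⟩
    have h1 := hφK2 ⟨_, hmem⟩
    rw [h1]
    exact hz'S ⟨_, hmem⟩ i rfl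
  -- a
  have ha : ∀ j : Fin n, ∃ a : E, Ideal.Quotient.mk J a = ψ (X j) ∧
      ∀ i : ↥Sᶜ, ε i = j → a = algebraMap k E (x i) - φK (algebraMap k K (x i)) := by
    intro j
    by_cases h : ∃ i : ↥Sᶜ, ε i = j
    · obtain ⟨i, hi⟩ := h
      refine ⟨algebraMap k E (x i) - φK (algebraMap k K (x i)), ?_, fun i' hi' => ?_⟩
      · rw [map_sub, ← hψk, hw, dif_neg i.2, map_add, ← hi, hφKmk, add_sub_cancel_left]
      · have := hε (hi'.trans hi.symm)
        rw [this]
    · obtain ⟨a, ha⟩ := Ideal.Quotient.mk_surjective (ψ (X j))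
      exact ⟨a, ha, fun i hi => absurd ⟨i, hi⟩ h⟩
  choose a ha1 ha2 using ha
  obtain ⟨χ, hχC, hχX, hχψ⟩ :=
    exists_ringHom_mvPowerSeries_lift n J hJ ψ hψ φK.toRingHom hφKmk a ha1
  refine ⟨χ, ?_, hχψ⟩
  -- uniqueness
  let χF : MvPowerSeries (Fin n) K →ₐ[F] E :=
    { χ with
      commutes' := fun f => by
        show χ (algebraMap F (MvPowerSeries (Fin n) K) f) = _
        rw [MvPowerSeries.algebraMap_apply, hχC]
        exact φK.commutes f }
  have hχF : ∀ f, χF f = χ f := fun f => rfl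
  obtain ⟨w₀, -, hw₀⟩ := (main4541 x hx).2 E J ⟨2, hJ⟩
    ((Ideal.Quotient.mkₐ F J).comp (IsScalarTower.toAlgHom F k E))
    (fun i => algebraMap k E (x i)) (fun i => rfl)
  have h1 : χF.comp w = w₀ := by
    apply hw₀
    refine ⟨?_, fun i => ?_⟩
    · apply AlgHom.ext
      intro b
      show Ideal.Quotient.mk J (χ (w b)) = Ideal.Quotient.mk J (algebraMap k E b)
      rw [hχψ, hψk]
    · show χ (w (x i)) = algebraMap k E (x i)
      rw [hw, map_add, hχC]
      by_cases hi : i ∈ S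
      · rw [dif_pos hi, map_zero, add_zero]
        exact hφS ⟨i, hi⟩
      · rw [dif_neg hi, hχX, ha2 (ε ⟨i, hi⟩) ⟨i, hi⟩ rfl]
        show φK (algebraMap k K (x i)) + (algebraMap k E (x i) - φK (algebraMap k K (x i))) = _
        ring
  have h2 : IsScalarTower.toAlgHom F k E = w₀ := hw₀ _ ⟨rfl, fun i => rfl⟩
  intro b
  exact congr($(h1.trans h2.symm) b)

end Groth.Agent.H5.Imp
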