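import Mathlib
import Groth.Prelude.Def_EGA41
import Groth.Prelude.Def_CAlgX
import Groth.Agent.Lib.Helper5.Imp.Imp5
import Groth.Agent.Lib.Helper5.Imp.Imp8
import Groth.Agent.Lib.Helper5.FSm.PSComplete

set_option autoImplicit false
universe u

open EGA41 IsLocalRing MvPowerSeries

namespace Groth.Agent.H5.Imp

open H5.PB

theorem constantCoeff_eq_zero_of_mem_maximalIdeal {K : Type u} [Field K] (n : ℕ)
    (f : MvPowerSeries (Fin n) K) (hf : f ∈ maximalIdeal (MvPowerSeries (Fin n) K)) :
    constantCoeff f = 0 := by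
  rw [mem_maximalIdeal, mem_nonunits_iff, MvPowerSeries.isUnit_iff_constantCoeff] at hf
  by_contra h
  exact hf (isUnit_iff_ne_zero.mpr h)

/-- **Existence of the twisted structure map** from a selection. -/
theorem exists_twisted_of_selection (p : ℕ) [Fact p.Prime] {F k K : Type u} [Field F] [Field k]
    [Field K] [Algebra F k] [Algebra F K] [Algebra k K] [IsScalarTower F k K] [CharP F p]
    [PerfectRing F p] {I : Type u} (x : I → k) (hx : IsPBasis p F x) (S : Set I)
    (hS : IsPIndependent p F (fun i : S => algebraMap k K (x i)))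
    (n : ℕ) (ε : ↥Sᶜ → Fin n) (hε : Function.Injective ε) :
    ∃ σ : k →+* MvPowerSeries (Fin n) K, (∀ a, constantCoeff (σ a) = algebraMap k K a) ∧
      @CAlgX.IsAdicFormallySmooth k _ (MvPowerSeries (Fin n) K) _ σ.toAlgebra
        (maximalIdeal (MvPowerSeries (Fin n) K)) := by
  classical
  haveI : CharP k p := charP_of_injective_algebraMap (algebraMap F k).injective p
  haveI : IsAdicComplete (maximalIdeal K) K := by
    rw [IsLocalRing.maximalIdeal_eq_bot]; infer_instance
  haveI : IsAdicComplete (maximalIdeal (MvPowerSeries (Fin n) K)) (MvPowerSeries (Fin n) K) :=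
    FSm.isAdicComplete_maximalIdeal_mvPowerSeries K n
  let cK : K →ₐ[F] MvPowerSeries (Fin n) K :=
    { (C : K →+* MvPowerSeries (Fin n) K) with
      commutes' := fun f => (MvPowerSeries.algebraMap_apply (r := f)).symm }
  let v₀ : k →ₐ[F] MvPowerSeries (Fin n) K ⧸ maximalIdeal (MvPowerSeries (Fin n) K) :=
    (Ideal.Quotient.mkₐ F _).comp (cK.comp (IsScalarTower.toAlgHom F k K))
  let z : I → MvPowerSeries (Fin n) K := fun i =>
    C (algebraMap k K (x i)) + (if h : i ∈ S then 0 else X (ε ⟨i, h⟩))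
  have hz : ∀ i, Ideal.Quotient.mk (maximalIdeal (MvPowerSeries (Fin n) K)) (z i) = v₀ (x i) := by
    intro i
    show Ideal.Quotient.mk _ (z i) = Ideal.Quotient.mk _ (C (algebraMap k K (x i)))
    rw [Ideal.Quotient.eq]
    show C (algebraMap k K (x i)) + _ - C (algebraMap k K (x i)) ∈ _
    rw [add_sub_cancel_left]
    split_ifs with h
    · exact zero_mem _
    · rw [Groth.Agent.H4.MvPSVars.maximalIdeal_eq_span_range_X]
      exact Ideal.subset_span (Set.mem_range_self _)
  obtain ⟨w, hw1, hw2⟩ :=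
    exists_algHom_of_pBasis_of_isAdicComplete x hx (maximalIdeal (MvPowerSeries (Fin n) K)) v₀ z hz
  refine ⟨w.toRingHom, fun a => ?_, ?_⟩
  · have h1 : Ideal.Quotient.mk (maximalIdeal (MvPowerSeries (Fin n) K)) (w a) =
        Ideal.Quotient.mk _ (C (algebraMap k K a)) := hw1 a
    have h2 := constantCoeff_eq_zero_of_mem_maximalIdeal n _ (Ideal.Quotient.eq.mp h1)
    rw [map_sub, constantCoeff_C, sub_eq_zero] at h2
    exact h2
  · letI : Algebra k (MvPowerSeries (Fin n) K) := w.toRingHom.toAlgebra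
    intro E _ _ J hJ ψ hψ
    obtain ⟨χ, hχ1, hχ2⟩ := twisted_lift p x hx S hS n ε hε w hw2 J hJ ψ.toRingHom
      (fun b => ψ.commutes b) hψ
    refine ⟨{ χ with commutes' := hχ1 }, ?_⟩
    apply AlgHom.ext
    intro f
    exact hχ2 f

end Groth.Agent.H5.Imp
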