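import Mathlib
import Groth.Prelude.Def_EGA41
import Groth.Prelude.Def_CAlgX
import Groth.Agent.Lib.Helper5.Imp.Imp7
import Groth.Agent.Lib.Helper5.Imp.Imp9
import Groth.Agent.Lib.Helper5.CA.PSAdicSmooth2

set_option autoImplicit false
universe u

open EGA41 IsLocalRing MvPowerSeries

namespace Groth.Agent.H5.Imp

open H5.PB

theorem exists_twisted_charP (p : ℕ) [Fact p.Prime] {k K : Type u} [Field k] [Field K]
    [Algebra k K] [CharP k p] (hfin : Module.Finite K (EGA41.imperfection ℤ k K)) (n : ℕ)
    (hn : Module.finrank K (EGA41.imperfection ℤ k K) ≤ n) :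
    ∃ σ : k →+* MvPowerSeries (Fin n) K, (∀ a, constantCoeff (σ a) = algebraMap k K a) ∧
      @CAlgX.IsAdicFormallySmooth k _ (MvPowerSeries (Fin n) K) _ σ.toAlgebra
        (maximalIdeal (MvPowerSeries (Fin n) K)) := by
  obtain ⟨B, hB, S, hS, hSfin, hScard⟩ := exists_selection_charP p hfin
  let F : Subfield k := ⊥
  haveI : PerfectField F := CoeffUniq.perfectField_bot k
  haveI : CharP F p :=
    (RingHom.charP_iff F.subtype Subtype.val_injective p).mpr inferInstance
  haveI : PerfectRing F p := PerfectField.toPerfectRing p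
  haveI := hSfin
  let e := Finite.equivFin ↥Sᶜ
  let ε : ↥Sᶜ → Fin n := fun i => Fin.castLE (hScard.trans hn) (e i)
  have hε : Function.Injective ε := (Fin.castLE_injective _).comp e.injective
  exact exists_twisted_of_selection p (F := F) (Subtype.val : B → k) hB S hS n ε hε

theorem exists_twisted_charZero {k K : Type u} [Field k] [Field K]
    [Algebra k K] [CharZero k] (n : ℕ) :
    ∃ σ : k →+* MvPowerSeries (Fin n) K, (∀ a, constantCoeff (σ a) = algebraMap k K a) ∧
      @CAlgX.IsAdicFormallySmooth k _ (MvPowerSeries (Fin n) K) _ σ.toAlgebra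
        (maximalIdeal (MvPowerSeries (Fin n) K)) := by
  refine ⟨(C : K →+* MvPowerSeries (Fin n) K).comp (algebraMap k K), fun a => ?_, ?_⟩
  · rw [RingHom.comp_apply, constantCoeff_C]
  · have heq : ((C : K →+* MvPowerSeries (Fin n) K).comp (algebraMap k K)).toAlgebra =
        (inferInstance : Algebra k (MvPowerSeries (Fin n) K)) :=
      Algebra.algebra_ext _ _ (fun r => by
        rw [RingHom.algebraMap_toAlgebra, MvPowerSeries.algebraMap_apply]
        rfl)
    rw [heq]
    haveI : Algebra.FormallySmooth k K := Groth.Agent.H5.CA.formallySmooth_of_perfectField k K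
    exact Groth.Agent.H5.CA.isAdicFormallySmooth_mvPowerSeries k K n

theorem exists_twisted {k K : Type u} [Field k] [Field K]
    [Algebra k K] (hfin : Module.Finite K (EGA41.imperfection ℤ k K)) (n : ℕ)
    (hn : Module.finrank K (EGA41.imperfection ℤ k K) ≤ n) :
    ∃ σ : k →+* MvPowerSeries (Fin n) K, (∀ a, constantCoeff (σ a) = algebraMap k K a) ∧
      @CAlgX.IsAdicFormallySmooth k _ (MvPowerSeries (Fin n) K) _ σ.toAlgebra
        (maximalIdeal (MvPowerSeries (Fin n) K)) := by
  obtain h0 | ⟨p, hp, hpk⟩ := CharP.exists' k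
  · exact exists_twisted_charZero n
  · haveI := hp
    haveI := hpk
    exact exists_twisted_charP p hfin n hn

end Groth.Agent.H5.Imp
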