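import Mathlib
import Groth.Prelude.Def_CAlgX
import Groth.Agent.Lib.Helper5.FSm.PSReg
import Groth.Agent.Lib.Helper5.FSm.PSComplete

set_option autoImplicit false
universe u

open IsLocalRing MvPowerSeries

namespace Groth.Agent.H5.Imp

/-- **Packaging**: a ring map `σ : k → K[[T_1..T_n]]` lifting `k → K` for which the power series
ring is adically formally smooth over `k` provides the required complete local `k`-algebra. -/
theorem exists_of_twisted {k K : Type u} [Field k] [Field K] [Algebra k K] (n : ℕ)
    (σ : k →+* MvPowerSeries (Fin n) K)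
    (hσ : ∀ a, constantCoeff (σ a) = algebraMap k K a)
    (hfs : @CAlgX.IsAdicFormallySmooth k _ (MvPowerSeries (Fin n) K) _ σ.toAlgebra
      (maximalIdeal (MvPowerSeries (Fin n) K))) :
    ∃ (A : Type u) (_ : CommRing A) (_ : IsLocalRing A) (_ : IsNoetherianRing A) (_ : Algebra k A),
      IsAdicComplete (maximalIdeal A) A ∧ CAlgX.IsAdicFormallySmooth k A (maximalIdeal A) ∧
      Nonempty (ResidueField A ≃ₐ[k] K) ∧ ringKrullDim A = n := by
  haveI : IsAdicComplete (maximalIdeal K) K := by
    rw [IsLocalRing.maximalIdeal_eq_bot]; infer_instance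
  obtain ⟨hreg, hdim⟩ := Groth.Agent.H5.FSm.isRegularLocalRing_mvPowerSeries K n
  refine ⟨MvPowerSeries (Fin n) K, inferInstance, inferInstance, inferInstance, σ.toAlgebra,
    inferInstance, hfs, ?_, ?_⟩
  · letI : Algebra k (MvPowerSeries (Fin n) K) := σ.toAlgebra
    let cc : MvPowerSeries (Fin n) K →ₐ[k] K :=
      { (constantCoeff : MvPowerSeries (Fin n) K →+* K) with
        commutes' := fun a => hσ a }
    have hcs : Function.Surjective cc := fun y => ⟨C y, constantCoeff_C y⟩
    have hker : RingHom.ker cc.toRingHom = maximalIdeal (MvPowerSeries (Fin n) K) := by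
      haveI : (RingHom.ker cc.toRingHom).IsMaximal := RingHom.ker_isMaximal_of_surjective _ hcs
      exact IsLocalRing.eq_maximalIdeal inferInstance
    let e1 : (MvPowerSeries (Fin n) K ⧸ RingHom.ker cc.toRingHom) ≃ₐ[k] K :=
      Ideal.quotientKerAlgEquivOfSurjective hcs
    exact ⟨(Ideal.quotientEquivAlgOfEq k hker.symm).trans e1⟩
  · rw [hdim, ringKrullDim_eq_zero_of_field, zero_add]

end Groth.Agent.H5.Imp
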